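import Mathlib

/-!
# An extension of a group of order sixteen by the symmetric group of degree six

Every such extension with faithful action has a section which is elementary of order thirty-two.
-/

set_option autoImplicit false
set_option linter.all false
set_option linter.style.haveILetI false

namespace Cfsg.Agent.SectFour17

open Equiv

variable {Y : Type*} [Group Y]

/-- The data of the extension. -/
structure Ext (V : Subgroup Y) (π : Y →* Perm (Fin 6)) : Prop where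
  card : Nat.card V = 16
  exp : ∀ v ∈ V, v * v = 1
  ker : π.ker = V
  surj : Function.Surjective π
  faith : ∀ g : Y, (∀ v ∈ V, g * v * g⁻¹ = v) → g ∈ V

/-- No non-trivial element of `V` is fixed by a lift of `d`. -/
def Free6 (V : Subgroup Y) (π : Y →* Perm (Fin 6)) (d : Perm (Fin 6)) : Prop :=
  ∀ g, π g = d → ∀ v ∈ V, g * v * g⁻¹ = v → v = 1

variable [Finite Y] {V : Subgroup Y} {π : Y →* Perm (Fin 6)} (E : Ext V π)
include E

theorem mem_iff {g : Y} : g ∈ V ↔ π g = 1 := by rw [← E.ker, MonoidHom.mem_ker]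

theorem conj_mem {g v : Y} (hv : v ∈ V) : g * v * g⁻¹ ∈ V := by
  rw [mem_iff E] at hv ⊢
  rw [map_mul, map_mul, map_inv, hv, mul_one, mul_inv_cancel]

theorem inv_eq {v : Y} (hv : v ∈ V) : v⁻¹ = v := inv_eq_of_mul_eq_one_right (E.exp v hv)

theorem comm {v w : Y} (hv : v ∈ V) (hw : w ∈ V) : v * w = w * v := by
  have h := inv_eq E (mul_mem hv hw)
  rw [mul_inv_rev, inv_eq E hv, inv_eq E hw] at h
  exact h.symm

theorem act_eq {g h v : Y} (e : π g = π h) (hv : v ∈ V) : g * v * g⁻¹ = h * v * h⁻¹ := by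
  have hm : h⁻¹ * g ∈ V := by rw [mem_iff E, map_mul, map_inv, e, inv_mul_cancel]
  have := comm E hm hv
  calc g * v * g⁻¹ = h * ((h⁻¹ * g) * v) * g⁻¹ := by group
    _ = h * (v * (h⁻¹ * g)) * g⁻¹ := by rw [this]
    _ = h * v * h⁻¹ := by group

theorem act_act (g h v : Y) : g * h * v * (g * h)⁻¹ = g * (h * v * h⁻¹) * g⁻¹ := by group

theorem act_mul (g v w : Y) : g * (v * w) * g⁻¹ = g * v * g⁻¹ * (g * w * g⁻¹) := by group

theorem act_comm {g h v : Y} (e : π g * π h = π h * π g) (hv : v ∈ V) :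
    g * (h * v * h⁻¹) * g⁻¹ = h * (g * v * g⁻¹) * h⁻¹ := by
  rw [← act_act E, ← act_act E]
  exact act_eq E (by rw [map_mul, map_mul, e]) hv

theorem pow_three_act {y v : Y} (h : π y ^ 3 = 1) (hv : v ∈ V) :
    y * (y * (y * v * y⁻¹) * y⁻¹) * y⁻¹ = v := by
  have e := act_eq E (g := y ^ 3) (h := 1) (by rw [map_pow, h, map_one]) hv
  rw [one_mul, inv_one, mul_one] at e
  calc y * (y * (y * v * y⁻¹) * y⁻¹) * y⁻¹ = y ^ 3 * v * (y ^ 3)⁻¹ := by
        simp only [pow_succ, pow_zero, one_mul]; group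
    _ = v := e

theorem free_conj {c d h : Perm (Fin 6)} (e : h * c * h⁻¹ = d) (hc : Free6 V π c) : Free6 V π d := by
  intro g hg v hv hgv
  obtain ⟨k, hk⟩ := E.surj h
  obtain ⟨g₀, hg₀⟩ := E.surj c
  have h1 : k⁻¹ * v * k⁻¹⁻¹ ∈ V := conj_mem E hv
  have h2 := hc g₀ hg₀ _ h1 (by
    rw [← act_act E]
    have e1 : π (g₀ * k⁻¹) = π (k⁻¹ * g) := by
      rw [map_mul, map_mul, map_inv, hg₀, hg, hk, ← e]
      group
    rw [act_eq E e1 hv, act_act E, hgv])
  calc v = k * (k⁻¹ * v * k⁻¹⁻¹) * k⁻¹ := by group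
    _ = 1 := by rw [h2]; group

/-- The subgroup of `V` fixed by an element. -/
def fx (V : Subgroup Y) (g : Y) : Subgroup Y := V ⊓ Subgroup.centralizer {g}

theorem mem_fx {g v : Y} : v ∈ fx V g ↔ v ∈ V ∧ g * v * g⁻¹ = v := by
  rw [fx, Subgroup.mem_inf, Subgroup.mem_centralizer_singleton_iff, mul_inv_eq_iff_eq_mul]
  exact and_congr_right fun _ => eq_comm

/-- The fixed points on an invariant subgroup of an element acting with prime power order. -/
theorem card_fixed {p k : ℕ} [Fact p.Prime] {S : Subgroup Y} {g : Y} (hS : S ≤ V)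
    (hinv : ∀ v ∈ S, g * v * g⁻¹ ∈ S) (hg : π g ^ p ^ k = 1) :
    Nat.card S ≡ Nat.card ↥(S ⊓ Subgroup.centralizer {g}) [MOD p] := by
  classical
  let f : ↥S → ↥S := fun v => ⟨g * v * g⁻¹, hinv v v.2⟩
  have hf : Function.Injective f := fun a b h =>
    Subtype.ext (mul_left_cancel (mul_right_cancel (congrArg Subtype.val h)))
  let σ : Perm ↥S := Equiv.ofBijective f ⟨hf, Finite.injective_iff_surjective.mp hf⟩
  have hpow : ∀ (n : ℕ) (v : ↥S), ((σ ^ n) v : Y) = g ^ n * v * (g ^ n)⁻¹ := by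
    intro n
    induction n with
    | zero => intro v; simp
    | succ n ih =>
      intro v
      rw [pow_succ', Perm.mul_apply, pow_succ']
      show g * ((σ ^ n) v : Y) * g⁻¹ = _
      rw [ih]; group
  have hσ : σ ^ p ^ k = 1 := Equiv.ext fun v => Subtype.ext (by
    rw [hpow, act_eq E (h := 1) (by rw [map_pow, hg, map_one]) (hS v.2)]
    simp)
  haveI := Fintype.ofFinite ↥S
  have h := Perm.card_compl_support_modEq (p := p) (n := k) hσ
  have e : Nat.card ↥(S ⊓ Subgroup.centralizer {g}) = σ.supportᶜ.card := by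
    rw [← Fintype.card_coe, ← Nat.card_eq_fintype_card]
    refine Nat.card_congr
      { toFun := fun v => ⟨⟨v, v.2.1⟩, by
          rw [Finset.mem_compl, Perm.mem_support, not_not]
          refine Subtype.ext ?_
          show g * (v : Y) * g⁻¹ = v
          rw [← Subgroup.mem_centralizer_singleton_iff.1 v.2.2, mul_inv_cancel_right]⟩
        invFun := fun v => ⟨v.1.1, v.1.2, Subgroup.mem_centralizer_singleton_iff.2 (by
          have h := v.2
          rw [Finset.mem_compl, Perm.mem_support, not_not] at h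
          exact (mul_inv_eq_iff_eq_mul.1 (congrArg Subtype.val h)).symm)⟩
        left_inv := fun v => rfl
        right_inv := fun v => rfl }
  rw [e, Nat.card_eq_fintype_card]
  exact h.symm

/-- An invariant subgroup of a fixed-point-free element of order three. -/
theorem card_invariant {S : Subgroup Y} {y : Y} {c : Perm (Fin 6)} (hy : π y = c) (hc3 : c ^ 3 = 1)
    (hc : Free6 V π c) (hS : S ≤ V) (hinv : ∀ v ∈ S, y * v * y⁻¹ ∈ S) (hne : S ≠ ⊥)
    (hlt : S ≠ V) : Nat.card S = 4 := by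
  haveI := Fact.mk Nat.prime_three
  have h := card_fixed E (p := 3) (k := 1) hS hinv (by rw [hy, pow_one, hc3])
  have hb : S ⊓ Subgroup.centralizer {y} = ⊥ := by
    rw [eq_bot_iff]
    intro v hv
    rw [Subgroup.mem_bot]
    exact hc y hy v (hS hv.1) (by
      rw [← Subgroup.mem_centralizer_singleton_iff.1 hv.2, mul_inv_cancel_right])
  rw [hb, Subgroup.card_bot] at h
  have hd : Nat.card S ∣ 2 ^ 4 := by
    have := Subgroup.card_dvd_of_le hS; rwa [E.card] at this
  have h16 : Nat.card S ≠ 16 := fun e =>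
    hlt (Subgroup.eq_of_le_of_card_ge hS (by rw [e, E.card]))
  have h1 : Nat.card S ≠ 1 := fun e => hne (Subgroup.card_eq_one.1 e)
  obtain ⟨i, hi, he⟩ := (Nat.dvd_prime_pow Nat.prime_two).1 hd
  rw [he] at h h16 h1 ⊢
  unfold Nat.ModEq at h
  interval_cases i <;> simp_all

/-- A lift of order dividing three. -/
theorem exists_lift {d : Perm (Fin 6)} (hd : d ^ 3 = 1) : ∃ y, π y = d ∧ y ^ 3 = 1 := by
  obtain ⟨y₀, hy₀⟩ := E.surj d
  have h3 : y₀ ^ 3 ∈ V := by rw [mem_iff E, map_pow, hy₀, hd]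
  refine ⟨y₀ ^ 4, ?_, ?_⟩
  · rw [map_pow, hy₀, pow_succ, hd, one_mul]
  · calc (y₀ ^ 4) ^ 3 = (y₀ ^ 3 * y₀ ^ 3) * (y₀ ^ 3 * y₀ ^ 3) := by
          simp only [← pow_add, ← pow_mul]
      _ = 1 := by rw [E.exp _ h3, one_mul]

/-- A lift of an element normalising a subgroup of order three, normalising a given lift of it. -/
theorem exists_normalising {i d : Perm (Fin 6)} {y : Y} (hy : π y = d) (hy3 : y ^ 3 = 1)
    {k : ℕ} (h : i * d * i⁻¹ = d ^ k) : ∃ x, π x = i ∧ x * y * x⁻¹ = y ^ k := by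
  obtain ⟨x₀, hx₀⟩ := E.surj i
  set z := y ^ k with hz
  have hz3 : z ^ 3 = 1 := by rw [hz, ← pow_mul, mul_comm, pow_mul, hy3, one_pow]
  set v := x₀ * y * x₀⁻¹ * z⁻¹ with hv
  have hvV : v ∈ V := by
    rw [mem_iff E, hv, hz]
    simp only [map_mul, map_inv, map_pow, hx₀, hy, h, mul_inv_cancel]
  set s := z * v * z⁻¹ with hs
  have hsV : s ∈ V := conj_mem E hvV
  have h3 : (v * z) ^ 3 = 1 := by
    rw [hv, inv_mul_cancel_right, conj_pow, hy3, mul_one, mul_inv_cancel]
  have hexpand : v * (z * v * z⁻¹) * (z * (z * v * z⁻¹) * z⁻¹) * z ^ 3 = (v * z) ^ 3 := by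
    simp only [pow_succ, pow_zero, one_mul]; group
  have hsum : v * s * (z * s * z⁻¹) = 1 := by
    have := hexpand.trans h3
    rwa [hz3, mul_one] at this
  have key : s * z * s⁻¹ = v * z := by
    have hzs : z * s * z⁻¹ ∈ V := conj_mem E hsV
    have e1 : s * (z * s * z⁻¹) = v := by
      calc s * (z * s * z⁻¹) = v⁻¹ * (v * s * (z * s * z⁻¹)) := by group
        _ = v := by rw [hsum, mul_one, inv_eq E hvV]
    calc s * z * s⁻¹ = s * (z * s⁻¹ * z⁻¹) * z := by group
      _ = v * z := by rw [inv_eq E hsV, e1]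
  refine ⟨s⁻¹ * x₀, ?_, ?_⟩
  · rw [map_mul, map_inv, (mem_iff E).1 hsV, inv_one, one_mul, hx₀]
  · calc s⁻¹ * x₀ * y * (s⁻¹ * x₀)⁻¹ = s⁻¹ * (v * z) * s := by rw [hv]; group
      _ = z := by rw [← key]; group

/-- An involution normalising a fixed-point-free element of order three lifts to an involution. -/
theorem exists_involution {i d : Perm (Fin 6)} (hi : i * i = 1) (hd : d ^ 3 = 1)
    (hfree : Free6 V π d) {k : ℕ} (hk : k = 1 ∨ k = 2) (h : i * d * i⁻¹ = d ^ k) :
    ∃ x, π x = i ∧ x * x = 1 := by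
  obtain ⟨y, hy, hy3⟩ := exists_lift E hd
  obtain ⟨x, hx, hxy⟩ := exists_normalising E hy hy3 h
  refine ⟨x, hx, hfree y hy _ (by rw [mem_iff E, map_mul, hx, hi]) ?_⟩
  have e : x * x * y * (x * x)⁻¹ = y := by
    rw [act_act E, hxy, ← conj_pow, hxy, ← pow_mul]
    rcases hk with rfl | rfl
    · rw [pow_one]
    · rw [show 2 * 2 = 3 + 1 from rfl, pow_add, hy3, one_mul, pow_one]
  have e' : x * x * y = y * (x * x) := mul_inv_eq_iff_eq_mul.1 e
  rw [← e', mul_inv_cancel_right]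

/-- One of the two classes of elements of order three acts without fixed points. -/
theorem dichotomy {c₁ c₂ g h : Perm (Fin 6)} (h3 : c₁ ^ 3 = 1) (hcomm : c₁ * c₂ = c₂ * c₁)
    (hg : g * c₁ * g⁻¹ = c₂) (hg' : g⁻¹ * c₁ * g⁻¹⁻¹ = c₂) (hh : h * (c₁ * (c₂ * c₂)) * h⁻¹ = c₁ * c₂)
    (h32 : c₂ ^ 3 = 1) (h1 : c₁ ≠ 1) :
    Free6 V π c₁ ∨ Free6 V π (c₁ * c₂) := by
  by_contra hcon
  rw [not_or] at hcon
  obtain ⟨hn1, hnd⟩ := hcon
  have hn2 : ¬ Free6 V π c₂ := fun hf => hn1 (free_conj E (h := g) (by rw [← hg']; group) hf)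
  obtain ⟨y₁, hy₁⟩ := E.surj c₁
  obtain ⟨y₂, hy₂⟩ := E.surj c₂
  have hnd' : ¬ Free6 V π (c₁ * (c₂ * c₂)) := fun hf => hnd (free_conj E hh hf)
  -- fixed subgroups
  have get : ∀ {d : Perm (Fin 6)} {y : Y}, ¬ Free6 V π d → π y = d →
      ∃ v ∈ V, v ≠ 1 ∧ y * v * y⁻¹ = v := by
    intro d y hn hy
    simp only [Free6, not_forall] at hn
    obtain ⟨g', hg', v, hv, he, hv1⟩ := hn
    exact ⟨v, hv, hv1, (act_eq E (hy.trans hg'.symm) hv).trans he⟩
  obtain ⟨v₁, hv₁, hv₁1, he₁⟩ := get hn1 hy₁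
  obtain ⟨v₂, hv₂, hv₂1, he₂⟩ := get hn2 hy₂
  obtain ⟨f, hf, hf1, hef⟩ := get hnd (show π (y₁ * y₂) = _ by rw [map_mul, hy₁, hy₂])
  obtain ⟨f', hf', hf'1, hef'⟩ := get hnd' (show π (y₁ * (y₂ * y₂)) = _ by rw [map_mul, map_mul, hy₁, hy₂])
  set C₁ := fx V y₁ with hC₁
  set C₂ := fx V y₂ with hC₂
  have h21 : ∀ v ∈ C₁, y₂ * v * y₂⁻¹ ∈ C₁ := fun v hv => by
    rw [mem_fx E] at hv ⊢
    exact ⟨conj_mem E hv.1, by rw [act_comm E (by rw [hy₁, hy₂, hcomm]) hv.1, hv.2]⟩
  have h12 : ∀ v ∈ C₂, y₁ * v * y₁⁻¹ ∈ C₂ := fun v hv => by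
    rw [mem_fx E] at hv ⊢
    exact ⟨conj_mem E hv.1, by rw [act_comm E (by rw [hy₁, hy₂, hcomm]) hv.1, hv.2]⟩
  have card4 : ∀ {c : Perm (Fin 6)} {y : Y}, π y = c → c ^ 3 = 1 → c ≠ 1 → (fx V y) ≠ ⊥ →
      Nat.card ↥(fx V y) = 4 := by
    intro c y hy hc3 hc1 hne
    haveI := Fact.mk Nat.prime_three
    have h := card_fixed E (p := 3) (k := 1) (S := V) (g := y) le_rfl
      (fun v hv => conj_mem E hv) (by rw [hy, pow_one, hc3])
    rw [E.card] at h
    change 16 ≡ Nat.card ↥(fx V y) [MOD 3] at h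
    have hd : Nat.card ↥(fx V y) ∣ 2 ^ 4 := by
      have := Subgroup.card_dvd_of_le (inf_le_left : fx V y ≤ V); rwa [E.card] at this
    have h1' : Nat.card ↥(fx V y) ≠ 1 := fun e => hne (Subgroup.card_eq_one.1 e)
    have h16 : Nat.card ↥(fx V y) ≠ 16 := fun e => by
      have hall := Subgroup.eq_of_le_of_card_ge (inf_le_left : fx V y ≤ V) (by
        change Nat.card V ≤ Nat.card ↥(fx V y); rw [e, E.card])
      exact hc1 (by rw [← hy, ← mem_iff E]; exact E.faith y fun v hv => ((mem_fx E).1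
        (hall.ge hv)).2)
    obtain ⟨i, hi, he⟩ := (Nat.dvd_prime_pow Nat.prime_two).1 hd
    rw [he] at h h16 h1' ⊢
    unfold Nat.ModEq at h
    interval_cases i <;> simp_all
  have hb1 : C₁ ≠ ⊥ := fun e => hv₁1 (Subgroup.mem_bot.1 (e ▸ (mem_fx E).2 ⟨hv₁, he₁⟩))
  have hb2 : C₂ ≠ ⊥ := fun e => hv₂1 (Subgroup.mem_bot.1 (e ▸ (mem_fx E).2 ⟨hv₂, he₂⟩))
  have hc1 : Nat.card C₁ = 4 := card4 hy₁ h3 h1 hb1
  have hc2 : Nat.card C₂ = 4 := card4 hy₂ h32 (fun e => h1 (by
    have := hg; rw [e, mul_inv_eq_one] at this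
    exact mul_eq_left.1 this)) hb2
  by_cases hI : C₁ ⊓ C₂ = ⊥
  · -- the product is the whole of `V`
    let m : C₁ × C₂ → V := fun p => ⟨(p.1 : Y) * p.2, mul_mem p.1.2.1 p.2.2.1⟩
    have hm : Function.Injective m := by
      rintro ⟨a, b⟩ ⟨a', b'⟩ e
      have e' : (a : Y) * b = a' * b' := congrArg Subtype.val e
      have hh : (a' : Y)⁻¹ * a = b' * (b : Y)⁻¹ := by
        rw [eq_mul_inv_iff_mul_eq, mul_assoc, e', inv_mul_cancel_left]
      have : (a' : Y)⁻¹ * a ∈ C₁ ⊓ C₂ :=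
        Subgroup.mem_inf.2 ⟨mul_mem (inv_mem a'.2) a.2, hh ▸ mul_mem b'.2 (inv_mem b.2)⟩
      rw [hI, Subgroup.mem_bot] at this
      exact Prod.ext (Subtype.ext (inv_mul_eq_one.1 this).symm)
        (Subtype.ext (mul_inv_eq_one.1 (hh ▸ this)).symm)
    have hm' : Function.Bijective m := by
      refine (Nat.bijective_iff_injective_and_card _).2 ⟨hm, ?_⟩
      rw [Nat.card_prod, hc1, hc2, E.card]
    obtain ⟨⟨a, b⟩, hab⟩ := hm'.2 ⟨f, hf⟩
    have hab' : (a : Y) * b = f := congrArg Subtype.val hab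
    have e : y₁ * y₂ * f * (y₁ * y₂)⁻¹ = y₂ * a * y₂⁻¹ * (y₁ * b * y₁⁻¹) := by
      rw [← hab', act_mul E, act_act E, act_act E, ((mem_fx E).1 (h21 a a.2)).2,
        ((mem_fx E).1 b.2).2]
    rw [hef, ← hab'] at e
    have := hm (a₁ := (a, b)) (a₂ := (⟨_, h21 a a.2⟩, ⟨_, h12 b b.2⟩)) (Subtype.ext e)
    rw [Prod.ext_iff] at this
    have ha1 : (a : Y) ∈ C₁ ⊓ C₂ :=
      ⟨a.2, (mem_fx E).2 ⟨a.2.1, (congrArg Subtype.val this.1).symm⟩⟩
    have hb1' : (b : Y) ∈ C₁ ⊓ C₂ :=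
      ⟨(mem_fx E).2 ⟨b.2.1, (congrArg Subtype.val this.2).symm⟩, b.2⟩
    rw [hI, Subgroup.mem_bot] at ha1 hb1'
    exact hf1 (by rw [← hab', ha1, hb1', one_mul])
  · -- the two fixed subgroups agree
    have hne := hI
    haveI := Fact.mk Nat.prime_three
    have h := card_fixed E (p := 3) (k := 1) (S := C₁) (g := y₂) inf_le_left h21 (by rw [hy₂, pow_one, h32])
    rw [hc1] at h
    have heq : C₁ ⊓ Subgroup.centralizer {y₂} = C₁ ⊓ C₂ := by
      exact le_antisymm (fun v hv => ⟨hv.1, hv.1.1, hv.2⟩) (fun v hv => ⟨hv.1, hv.2.2⟩)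
    rw [heq] at h
    have hd : Nat.card ↥(C₁ ⊓ C₂) ∣ 2 ^ 2 := by
      have := Subgroup.card_dvd_of_le (inf_le_left : C₁ ⊓ C₂ ≤ C₁); rwa [hc1] at this
    obtain ⟨i, hi, he⟩ := (Nat.dvd_prime_pow Nat.prime_two).1 hd
    have h1' : Nat.card ↥(C₁ ⊓ C₂) ≠ 1 := fun e => hI (Subgroup.card_eq_one.1 e)
    rw [he] at h h1'
    have hi2 : i = 2 := by
      unfold Nat.ModEq at h
      interval_cases i <;> simp_all
    subst hi2
    have hC12 : C₁ ⊓ C₂ = C₁ := Subgroup.eq_of_le_of_card_ge inf_le_left (by rw [he, hc1]; norm_num)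
    have hC21 : C₁ ⊓ C₂ = C₂ := Subgroup.eq_of_le_of_card_ge inf_le_right (by rw [he, hc2]; norm_num)
    have hsame : C₁ = C₂ := hC12.symm.trans hC21
    -- the norm kernel of the first element
    let K : Subgroup Y :=
      { carrier := {v | v ∈ V ∧ v * (y₁ * v * y₁⁻¹) * (y₁ * (y₁ * v * y₁⁻¹) * y₁⁻¹) = 1}
        one_mem' := ⟨one_mem _, by group⟩
        mul_mem' := by
          rintro v w ⟨hv, ev⟩ ⟨hw, ew⟩
          refine ⟨mul_mem hv hw, ?_⟩
          rw [act_mul E, act_mul E]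
          set v' := y₁ * v * y₁⁻¹
          set w' := y₁ * w * y₁⁻¹
          have hv' : v' ∈ V := conj_mem E hv
          have hw' : w' ∈ V := conj_mem E hw
          set v'' := y₁ * v' * y₁⁻¹
          set w'' := y₁ * w' * y₁⁻¹
          have hv'' : v'' ∈ V := conj_mem E hv'
          calc v * w * (v' * w') * (v'' * w'') = v * (w * v') * (w' * v'') * w'' := by group
            _ = v * (v' * w) * (v'' * w') * w'' := by rw [comm E hw hv', comm E hw' hv'']
            _ = v * v' * (w * v'') * w' * w'' := by group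
            _ = v * v' * (v'' * w) * w' * w'' := by rw [comm E hw hv'']
            _ = (v * v' * v'') * (w * w' * w'') := by group
            _ = 1 := by rw [ev, ew, one_mul]
        inv_mem' := by
          rintro v ⟨hv, ev⟩
          rw [inv_eq E hv]; exact ⟨hv, ev⟩ }
    have hKV : K ≤ V := fun v hv => hv.1
    have hKfix : ∀ v ∈ K, y₁ * v * y₁⁻¹ = v → v = 1 := by
      rintro v ⟨hv, ev⟩ e
      rw [e, e, E.exp v hv, one_mul] at ev
      exact ev
    have hp3 : π y₁ ^ 3 = 1 := by rw [hy₁, h3]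
    -- every element is a fixed one times one in the kernel
    have hdec : ∀ v ∈ V, ∃ a ∈ C₁, ∃ b ∈ K, v = a * b := by
      intro v hv
      obtain ⟨v', hv'def⟩ : ∃ v', v' = y₁ * v * y₁⁻¹ := ⟨_, rfl⟩
      have hv' : v' ∈ V := hv'def ▸ conj_mem E hv
      obtain ⟨v'', hv''def⟩ : ∃ v'', v'' = y₁ * v' * y₁⁻¹ := ⟨_, rfl⟩
      have hv'' : v'' ∈ V := hv''def ▸ conj_mem E hv'
      have h4 : y₁ * v'' * y₁⁻¹ = v := by rw [hv''def, hv'def]; exact pow_three_act E hp3 hv
      refine ⟨v * v' * v'', (mem_fx E).2 ⟨mul_mem (mul_mem hv hv') hv'', ?_⟩, v' * v'',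
        ⟨mul_mem hv' hv'', ?_⟩, ?_⟩
      · rw [act_mul E y₁ (v * v') v'', act_mul E y₁ v v', h4, ← hv'def, ← hv''def]
        rw [comm E (mul_mem hv' hv'') hv, mul_assoc]
      · rw [act_mul E y₁ v' v'', ← hv''def, h4, act_mul E y₁ v'' v, h4, ← hv'def]
        calc v' * v'' * (v'' * v) * (v * v') = v' * (v'' * v'') * (v * v) * v' := by group
          _ = 1 := by rw [E.exp _ hv'', E.exp _ hv, mul_one, mul_one, E.exp _ hv']
      · calc v = v * ((v' * v'') * (v' * v'')) := by rw [E.exp _ (mul_mem hv' hv''), mul_one]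
          _ = v * v' * v'' * (v' * v'') := by group
    have hK2 : ∀ v ∈ K, y₂ * v * y₂⁻¹ ∈ K := by
      rintro v ⟨hv, ev⟩
      refine ⟨conj_mem E hv, ?_⟩
      have hc' : π y₁ * π y₂ = π y₂ * π y₁ := by rw [hy₁, hy₂, hcomm]
      rw [act_comm E hc' hv, act_comm E hc' (conj_mem E hv), ← act_mul E, ← act_mul E, ev]
      group
    have hKne : K ≠ ⊥ := by
      intro e
      have hall : ∀ v ∈ V, y₁ * v * y₁⁻¹ = v := fun v hv => by
        obtain ⟨a, ha, b, hb, rfl⟩ := hdec v hv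
        rw [e, Subgroup.mem_bot] at hb
        rw [hb, mul_one]; exact ((mem_fx E).1 ha).2
      exact h1 (by rw [← hy₁, ← mem_iff E]; exact E.faith y₁ hall)
    have hI0 : ∀ v ∈ K, ∀ {y : Y}, fx V y = C₁ → y * v * y⁻¹ = v → v = 1 := fun v hv y e h' =>
      hKfix v hv ((mem_fx E).1 (e ▸ (mem_fx E).2 ⟨hv.1, h'⟩ : v ∈ C₁)).2
    obtain ⟨⟨w, hw⟩, hw'⟩ := Subgroup.ne_bot_iff_exists_ne_one.1 hKne
    have hw1 : w ≠ 1 := fun e => hw' (Subtype.ext e)
    have hK4 : Nat.card K ≤ 4 := by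
      have hle : Nat.card C₁ * Nat.card K ≤ Nat.card V := by
        rw [← Nat.card_prod]
        refine Nat.card_le_card_of_injective
          (fun p : C₁ × K => (⟨(p.1 : Y) * p.2, mul_mem p.1.2.1 p.2.2.1⟩ : V)) ?_
        rintro ⟨a, b⟩ ⟨a', b'⟩ e
        have e' : (a : Y) * b = a' * b' := congrArg Subtype.val e
        have hh : (a' : Y)⁻¹ * a = b' * (b : Y)⁻¹ := by
          rw [eq_mul_inv_iff_mul_eq, mul_assoc, e', inv_mul_cancel_left]
        have h0 : (a' : Y)⁻¹ * a = 1 := hKfix _ (hh ▸ mul_mem b'.2 (inv_mem b.2))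
          ((mem_fx E).1 (mul_mem (inv_mem a'.2) a.2)).2
        exact Prod.ext (Subtype.ext (inv_mul_eq_one.1 h0).symm)
          (Subtype.ext (mul_inv_eq_one.1 (hh ▸ h0)).symm)
      rw [hc1, E.card] at hle
      omega
    have hKy : ∀ v ∈ K, y₁ * v * y₁⁻¹ ∈ K := by
      rintro v ⟨hv, ev⟩
      refine ⟨conj_mem E hv, ?_⟩
      rw [← act_mul E, ← act_mul E, ev]
      group
    have hc' : π y₁ * π y₂ = π y₂ * π y₁ := by rw [hy₁, hy₂, hcomm]
    obtain ⟨w', hw'def⟩ : ∃ w', w' = y₁ * w * y₁⁻¹ := ⟨_, rfl⟩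
    obtain ⟨w'', hw''def⟩ : ∃ w'', w'' = y₁ * w' * y₁⁻¹ := ⟨_, rfl⟩
    have hwV : w ∈ V := hKV hw
    have hw'K : w' ∈ K := hw'def ▸ hKy w hw
    have hw''K : w'' ∈ K := hw''def ▸ hKy w' hw'K
    have h4 : y₁ * w'' * y₁⁻¹ = w := by rw [hw''def, hw'def]; exact pow_three_act E hp3 hwV
    have ne01 : w' ≠ w := fun e => hw1 (hKfix w hw (hw'def ▸ e))
    have ne12 : w'' ≠ w' := fun e => ne01 (by
      rw [hw'def, hw''def] at *
      exact mul_left_cancel (mul_right_cancel e))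
    have ne02 : w'' ≠ w := fun e => ne01 (by
      rw [e] at h4
      rw [hw'def, h4])
    have ne1' : w' ≠ 1 := fun e => hw1 (by
      rw [hw'def, mul_inv_eq_one] at e
      exact mul_eq_left.1 e)
    have ne1'' : w'' ≠ 1 := fun e => ne1' (by
      rw [hw''def, mul_inv_eq_one] at e
      exact mul_eq_left.1 e)
    have hmem : y₂ * w * y₂⁻¹ = w' ∨ y₂ * w * y₂⁻¹ = w'' := by
      classical
      by_contra hno
      rw [not_or] at hno
      set x := y₂ * w * y₂⁻¹ with hx
      have hxK : x ∈ K := hK2 w hw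
      have hxw : x ≠ w := fun e => hw1 (hKfix w hw ((mem_fx E).1
        (hsame.symm ▸ ((mem_fx E).2 ⟨hwV, e⟩ : w ∈ fx V y₂) : w ∈ C₁)).2)
      have hx1 : x ≠ 1 := fun e => hw1 (by
        rw [hx, mul_inv_eq_one] at e
        exact mul_eq_left.1 e)
      have hsub : (↑({1, w, w', w'', x} : Finset Y) : Set Y) ⊆ (K : Set Y) := by
        intro z hz
        simp only [Finset.coe_insert, Finset.coe_singleton, Set.mem_insert_iff, Set.mem_singleton_iff] at hz
        rcases hz with rfl | rfl | rfl | rfl | rfl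
        exacts [K.one_mem, hw, hw'K, hw''K, hxK]
      have hcard := Set.ncard_le_ncard hsub (Set.toFinite _)
      rw [Set.ncard_coe_finset, ← Nat.card_coe_set_eq] at hcard
      have h5 : ({1, w, w', w'', x} : Finset Y).card = 5 := by
        rw [Finset.card_insert_of_notMem, Finset.card_insert_of_notMem, Finset.card_insert_of_notMem,
          Finset.card_insert_of_notMem, Finset.card_singleton] <;>
          simp [hw1.symm, ne1'.symm, ne1''.symm, hx1.symm, ne01.symm, ne02.symm, hxw.symm, ne12.symm,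
            Ne.symm hno.1, Ne.symm hno.2]
      have hle4 : Nat.card ↥(K : Set Y) ≤ 4 := hK4
      omega
    have hC2' : ∀ v ∈ C₁, v ∈ V ∧ y₁ * v * y₁⁻¹ = v ∧ y₂ * v * y₂⁻¹ = v := fun v hv =>
      ⟨hv.1, ((mem_fx E).1 hv).2, ((mem_fx E).1 (hsame.le hv)).2⟩
    have hcom : Commute c₁ c₂ := hcomm
    have hd1 : c₁ * c₂ ≠ 1 := fun e => by
      have e' : c₁ * (c₂ * c₂) = 1 := by
        rw [e] at hh
        exact mul_eq_left.1 (mul_inv_eq_one.1 hh)
      rw [← mul_assoc, e, one_mul] at e'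
      rw [e', mul_one] at e
      exact h1 e
    have hd2 : c₁ * (c₂ * c₂) ≠ 1 := fun e => hd1 (by rw [← hh, e, mul_one, mul_inv_cancel])
    have key : ∀ {d : Perm (Fin 6)} {y : Y}, π y = d → d ^ 3 = 1 → d ≠ 1 →
        (∀ v ∈ C₁, y * v * y⁻¹ = v) → y * w * y⁻¹ = w → False := by
      intro d y hy hd3 hd1 hfix hw2
      have hle : C₁ ≤ fx V y := fun v hv => (mem_fx E).2 ⟨(hC2' v hv).1, hfix v hv⟩
      have hne' : fx V y ≠ ⊥ := fun e => hb1 (le_bot_iff.1 (e ▸ hle))
      have := Subgroup.eq_of_le_of_card_ge hle (by rw [card4 hy hd3 hd1 hne', hc1])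
      exact hw1 (hI0 w hw this.symm hw2)
    rcases hmem with e | e
    · refine key (d := c₁ * (c₂ * c₂)) (y := y₁ * (y₂ * y₂)) (by rw [map_mul, map_mul, hy₁, hy₂]) ?_ hd2
        (fun v hv => ?_) ?_
      · rw [(hcom.mul_right hcom).mul_pow, h3, (Commute.refl c₂).mul_pow, h32, mul_one, mul_one]
      · rw [act_act E, act_act E, (hC2' v hv).2.2, (hC2' v hv).2.2, (hC2' v hv).2.1]
      · rw [act_act E, act_act E, e, hw'def, ← act_comm E hc' hwV, e, ← hw''def, h4]
    · refine key (d := c₁ * c₂) (y := y₁ * y₂) (by rw [map_mul, hy₁, hy₂]) ?_ hd1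
        (fun v hv => ?_) ?_
      · rw [hcom.mul_pow, h3, h32, mul_one]
      · rw [act_act E, (hC2' v hv).2.2, (hC2' v hv).2.1]
      · rw [act_act E, e, h4]

/-- The fixed subgroup of an involution contains a non-trivial element. -/
theorem fx_two_ne_bot {S : Subgroup Y} {g : Y} (hS : S ≤ V) (hne : S ≠ ⊥)
    (hinv : ∀ v ∈ S, g * v * g⁻¹ ∈ S) (hg : π g * π g = 1) : S ⊓ Subgroup.centralizer {g} ≠ ⊥ := by
  haveI := Fact.mk Nat.prime_two
  intro e
  have h := card_fixed E (p := 2) (k := 1) hS hinv (by rw [pow_one, pow_two, hg])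
  rw [e, Subgroup.card_bot] at h
  have hd : Nat.card S ∣ 2 ^ 4 := by
    have := Subgroup.card_dvd_of_le hS; rwa [E.card] at this
  have h1 : Nat.card S ≠ 1 := fun e => hne (Subgroup.card_eq_one.1 e)
  obtain ⟨i, hi, he⟩ := (Nat.dvd_prime_pow Nat.prime_two).1 hd
  rw [he] at h h1
  unfold Nat.ModEq at h
  interval_cases i <;> simp_all

set_option maxHeartbeats 1600000 in
/-- The section of order thirty-two. -/
theorem exists_section {a u c cu d g : Perm (Fin 6)} (ha2 : a * a = 1) (hu2 : u * u = 1)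
    (hc3 : c ^ 3 = 1) (hac : a * c * a⁻¹ = c ^ 1) (hau : a * u = u * a) (ha1 : a ≠ 1)
    (huw : u * (c * u * c⁻¹) = c * u * c⁻¹ * u) (hg : g * c * g⁻¹ = cu) {k : ℕ} (hk : k = 1 ∨ k = 2)
    (hucu : u * cu * u⁻¹ = cu ^ k) (hd3 : d ^ 3 = 1) (hd1 : d ≠ 1) (hau1 : a * u ≠ 1)
    (hd : a * u * d * (a * u)⁻¹ = d ^ 1) (hfree : Free6 V π c) (E' : Subgroup (Perm (Fin 6)))
    (hE' : ∀ e ∈ E', e = 1 ∨ e = a ∨ e = u ∨ e = c * u * c⁻¹ ∨ e = c * (c * u * c⁻¹) * c⁻¹ ∨
      e = a * u ∨ e = c * (a * u) * c⁻¹ ∨ e = c * (c * (a * u) * c⁻¹) * c⁻¹)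
    (hcard : Nat.card E' = 8) :
    ∃ (H : Subgroup Y) (N : Subgroup H) (_ : N.Normal), Nat.card (H ⧸ N) = 32 ∧
      ∀ q : H ⧸ N, q * q = 1 := by
  classical
  haveI := Fact.mk Nat.prime_two
  haveI := Fact.mk Nat.prime_three
  obtain ⟨y, hy, hy3⟩ := exists_lift E hc3
  obtain ⟨ã, hã, hã2⟩ := exists_involution E ha2 hc3 hfree (Or.inl rfl) hac
  have hc3' : cu ^ 3 = 1 := by rw [← hg, conj_pow, hc3, mul_one, mul_inv_cancel]
  obtain ⟨ũ, hũ, hũ2⟩ := exists_involution E hu2 hc3' (free_conj E hg hfree) hk hucu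
  have hca : π ã * π y = π y * π ã := by
    rw [hã, hy]; exact mul_inv_eq_iff_eq_mul.1 (hac.trans (pow_one c))
  have hua : π ã * π ũ = π ũ * π ã := by rw [hã, hũ, hau]
  set W := fx V ã with hW
  have hWV : W ≤ V := inf_le_left
  have hyW : ∀ v ∈ W, y * v * y⁻¹ ∈ W := fun v hv => (mem_fx E).2
    ⟨conj_mem E (hWV hv), by rw [act_comm E hca (hWV hv), ((mem_fx E).1 hv).2]⟩
  have huW : ∀ v ∈ W, ũ * v * ũ⁻¹ ∈ W := fun v hv => (mem_fx E).2
    ⟨conj_mem E (hWV hv), by rw [act_comm E hua (hWV hv), ((mem_fx E).1 hv).2]⟩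
  have hVne : V ≠ ⊥ := fun e => by
    have := E.card; rw [e, Subgroup.card_bot] at this; omega
  have hW4 : Nat.card W = 4 := card_invariant E hy hc3 hfree hWV hyW
    (fx_two_ne_bot E le_rfl hVne (fun v hv => conj_mem E hv) (by rw [hã, ha2]))
    (fun e => ha1 (by
      rw [← hã, ← mem_iff E]
      exact E.faith ã fun v hv => ((mem_fx E).1 (e.ge hv)).2))
  have hyinv : ∀ v, y⁻¹ * v * y = y * (y * v * y⁻¹) * y⁻¹ := fun v => by
    have h3 : y⁻¹ = y * y := inv_eq_of_mul_eq_one_right (by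
      rw [← mul_assoc, ← pow_two, ← pow_succ, hy3])
    calc y⁻¹ * v * y = y⁻¹ * v * (y⁻¹)⁻¹ := by rw [inv_inv]
      _ = y * y * v * (y * y)⁻¹ := by rw [h3]
      _ = y * (y * v * y⁻¹) * y⁻¹ := by group
  -- the second involution centralises `W`
  have hyfree : ∀ v ∈ V, y * v * y⁻¹ = v → v = 1 := fun v hv e => hfree y hy v hv e
  have huWfix : ∀ v ∈ W, ũ * v * ũ⁻¹ = v := by
    set S := W ⊓ Subgroup.centralizer {ũ} with hS
    have hmem : ∀ v, v ∈ S ↔ v ∈ W ∧ ũ * v * ũ⁻¹ = v := fun v => by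
      rw [hS, Subgroup.mem_inf, Subgroup.mem_centralizer_singleton_iff, mul_inv_eq_iff_eq_mul]
      exact and_congr_right fun _ => eq_comm
    by_contra hno
    have hS4 : Nat.card S ∣ 2 ^ 2 := by
      have := Subgroup.card_dvd_of_le (inf_le_left : S ≤ W); rwa [hW4] at this
    have hne : S ≠ W := fun e => hno fun v hv => ((hmem v).1 (e.ge hv)).2
    have hlt : Nat.card S ≠ 4 := fun e =>
      hne (Subgroup.eq_of_le_of_card_ge inf_le_left (by rw [e, hW4]))
    have hWne : W ≠ ⊥ := fun e => by rw [e, Subgroup.card_bot] at hW4; omega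
    have hSne : S ≠ ⊥ := fx_two_ne_bot E hWV hWne huW (by rw [hũ, hu2])
    have hS1 : Nat.card S ≠ 1 := fun e => hSne (Subgroup.card_eq_one.1 e)
    have hS2 : Nat.card S = 2 := by
      obtain ⟨i, hi, he⟩ := (Nat.dvd_prime_pow Nat.prime_two).1 hS4
      rw [he] at hlt hS1 ⊢
      interval_cases i <;> simp_all
    obtain ⟨⟨s, hs⟩, hs'⟩ := Subgroup.ne_bot_iff_exists_ne_one.1 hSne
    have hs1 : s ≠ 1 := fun e => hs' (Subtype.ext e)
    have uniq : ∀ t ∈ S, t ≠ 1 → t = s := fun t ht ht1 => by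
      by_contra hts
      have hsub : (↑({1, s, t} : Finset Y) : Set Y) ⊆ (S : Set Y) := by
        intro z hz
        simp only [Finset.coe_insert, Finset.coe_singleton, Set.mem_insert_iff, Set.mem_singleton_iff] at hz
        rcases hz with rfl | rfl | rfl
        exacts [S.one_mem, hs, ht]
      have h3 := Set.ncard_le_ncard hsub (Set.toFinite _)
      rw [Set.ncard_coe_finset, ← Nat.card_coe_set_eq] at h3
      have h3' : ({1, s, t} : Finset Y).card = 3 := by
        rw [Finset.card_insert_of_notMem, Finset.card_insert_of_notMem, Finset.card_singleton] <;>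
          simp [hs1.symm, ht1.symm, Ne.symm hts]
      have : Nat.card ↥(S : Set Y) = 2 := hS2
      omega
    obtain ⟨hsW, hse⟩ := (hmem s).1 hs
    obtain ⟨t, ht⟩ : ∃ t, t = y * s * y⁻¹ := ⟨_, rfl⟩
    have htW : t ∈ W := ht ▸ hyW s hsW
    have ht1 : t ≠ 1 := fun e => hs1 (by
      rw [ht, mul_inv_eq_one] at e
      exact mul_eq_left.1 e)
    have hwt : y * ũ * y⁻¹ * t * (y * ũ * y⁻¹)⁻¹ = t := by
      rw [ht]
      calc _ = y * (ũ * s * ũ⁻¹) * y⁻¹ := by group
        _ = _ := by rw [hse]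
    have hcomm' : π ũ * π (y * ũ * y⁻¹) = π (y * ũ * y⁻¹) * π ũ := by
      simp only [map_mul, map_inv, hũ, hy, huw]
    have huwS : ∀ v ∈ S, y * ũ * y⁻¹ * v * (y * ũ * y⁻¹)⁻¹ = v := fun v hv => by
      by_cases hv1 : v = 1
      · rw [hv1]; group
      · have hwv : y * ũ * y⁻¹ * v * (y * ũ * y⁻¹)⁻¹ ∈ S := by
          refine (hmem _).2 ⟨?_, ?_⟩
          · have : y * ũ * y⁻¹ * v * (y * ũ * y⁻¹)⁻¹ = y * (ũ * (y⁻¹ * v * y) * ũ⁻¹) * y⁻¹ := by group
            rw [this]
            refine hyW _ (huW _ ?_)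
            have hvV := hWV ((hmem v).1 hv).1
            rw [hyinv]
            exact hyW _ (hyW _ ((hmem v).1 hv).1)
          · rw [act_comm E hcomm' (hWV ((hmem v).1 hv).1), ((hmem v).1 hv).2]
        have hne1 : y * ũ * y⁻¹ * v * (y * ũ * y⁻¹)⁻¹ ≠ 1 := fun e => hv1 (by
          rw [mul_inv_eq_one] at e
          exact mul_eq_left.1 e)
        rw [uniq _ hwv hne1, uniq v hv hv1]
    -- `t` is fixed by `ũ`, as it is the only element moved by neither conjugate
    have htS : ũ * t * ũ⁻¹ = t := by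
      by_contra hut
      obtain ⟨t', ht'⟩ : ∃ t', t' = ũ * t * ũ⁻¹ := ⟨_, rfl⟩
      rw [← ht'] at hut
      have ht'W : t' ∈ W := ht' ▸ huW t htW
      have hwt' : y * ũ * y⁻¹ * t' * (y * ũ * y⁻¹)⁻¹ = t' := by
        rw [ht', act_comm E hcomm'.symm (hWV htW), hwt]
      -- the fixed subgroup of the conjugate has two elements
      have back : ∀ v, y * ũ * y⁻¹ * v * (y * ũ * y⁻¹)⁻¹ = v → v ∈ W → v ≠ 1 → v = t := fun v hv hvW hv1 => by
        have hvV := hWV hvW
        obtain ⟨r, hr⟩ : ∃ r, r = y⁻¹ * v * y := ⟨_, rfl⟩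
        have hr' : y * r * y⁻¹ = v := by rw [hr]; group
        have hrfix : ũ * r * ũ⁻¹ = r := by
          have h0 : y * (ũ * r * ũ⁻¹) * y⁻¹ = v := by rw [hr]; refine Eq.trans ?_ hv; group
          calc ũ * r * ũ⁻¹ = y⁻¹ * (y * (ũ * r * ũ⁻¹) * y⁻¹) * y := by group
            _ = r := by rw [h0, hr]
        have hrW : r ∈ W := by
          rw [hr, hyinv]; exact hyW _ (hyW _ hvW)
        have hr1 : r ≠ 1 := fun e => hv1 (by rw [← hr', e]; group)
        rw [← hr', uniq r ((hmem r).2 ⟨hrW, hrfix⟩) hr1, ht]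
      exact hut (back t' hwt' ht'W (fun e => ht1 (by
        rw [ht', mul_inv_eq_one] at e
        exact mul_eq_left.1 e)))
    exact hs1 (hyfree s (hWV hsW) (ht.symm.trans (uniq t ((hmem t).2 ⟨htW, htS⟩) ht1)))
  -- elements acting trivially on `W` and on `V / W`
  let G : Subgroup Y :=
    { carrier := {x | (∀ v ∈ W, x * v * x⁻¹ = v) ∧ ∀ v ∈ V, x * v * x⁻¹ * v ∈ W}
      one_mem' := ⟨fun v _ => by group, fun v hv => by
        rw [one_mul, inv_one, mul_one, E.exp v hv]; exact W.one_mem⟩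
      mul_mem' := by
        rintro x z ⟨hx, hx'⟩ ⟨hz, hz'⟩
        refine ⟨fun v hv => by rw [act_act E, hz v hv, hx v hv], fun v hv => ?_⟩
        have hm : z * v * z⁻¹ ∈ V := conj_mem E hv
        have e : x * z * v * (x * z)⁻¹ * v =
            x * (z * v * z⁻¹) * x⁻¹ * (z * v * z⁻¹) * (z * v * z⁻¹ * v) := by
          rw [act_act E, mul_assoc (x * (z * v * z⁻¹) * x⁻¹) (z * v * z⁻¹), ← mul_assoc (z * v * z⁻¹) (z * v * z⁻¹),
            E.exp _ hm, one_mul]
        rw [e]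
        exact mul_mem (hx' _ hm) (hz' v hv)
      inv_mem' := by
        rintro x ⟨hx, hx'⟩
        refine ⟨fun v hv => ?_, fun v hv => ?_⟩
        · conv_lhs => rw [← hx v hv]
          group
        · have hm : x⁻¹ * v * x⁻¹⁻¹ ∈ V := conj_mem E hv
          have e := hx' _ hm
          rw [show x * (x⁻¹ * v * x⁻¹⁻¹) * x⁻¹ = v by group, comm E hv hm] at e
          exact e }
  have hVG : V ≤ G := fun x hx => by
    have hfix : ∀ v ∈ V, x * v * x⁻¹ = v := fun v hv => by
      rw [comm E hx hv, mul_inv_cancel_right]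
    exact ⟨fun v hv => hfix v (hWV hv), fun v hv => by rw [hfix v hv, E.exp v hv]; exact W.one_mem⟩
  have haG : ã ∈ G := ⟨fun v hv => ((mem_fx E).1 hv).2, fun v hv => (mem_fx E).2
    ⟨mul_mem (conj_mem E hv) hv, by
      rw [act_mul E, ← act_act E, hã2, one_mul, inv_one, mul_one, comm E hv (conj_mem E hv)]⟩⟩
  have huG : ũ ∈ G := ⟨huWfix, fun v hv => (mem_fx E).2 ⟨mul_mem (conj_mem E hv) hv, by
    obtain ⟨p, hp⟩ : ∃ p, p = ã * v * ã⁻¹ := ⟨_, rfl⟩
    obtain ⟨q, hq⟩ : ∃ q, q = ũ * v * ũ⁻¹ := ⟨_, rfl⟩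
    have hpV : p ∈ V := hp ▸ conj_mem E hv
    have hqV : q ∈ V := hq ▸ conj_mem E hv
    rw [← hq]
    have h1 : ũ * (p * v) * ũ⁻¹ = p * v := huWfix _ (hp ▸ haG.2 v hv)
    rw [act_mul E, ← hq, hp, ← act_comm E hua hv, ← hq, ← hp] at h1
    rw [act_mul E, ← hp]
    calc ã * q * ã⁻¹ * p = (ã * q * ã⁻¹ * q) * (q * p) := by
          rw [mul_assoc (ã * q * ã⁻¹), ← mul_assoc q q, E.exp q hqV, one_mul]
      _ = p * v * (q * p) := by rw [h1]
      _ = p * p * (v * q) := by
          rw [comm E hqV hpV, mul_assoc p v, ← mul_assoc v p q, comm E hv hpV]; group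
      _ = q * v := by rw [E.exp p hpV, one_mul, comm E hv hqV]⟩⟩
  have hyG : ∀ x ∈ G, y * x * y⁻¹ ∈ G := by
    have hyW' : ∀ v ∈ W, y⁻¹ * v * y ∈ W := fun v hv => by
      rw [hyinv]; exact hyW _ (hyW _ hv)
    rintro x ⟨hx, hx'⟩
    refine ⟨fun v hv => ?_, fun v hv => ?_⟩
    · calc y * x * y⁻¹ * v * (y * x * y⁻¹)⁻¹ = y * (x * (y⁻¹ * v * y) * x⁻¹) * y⁻¹ := by group
        _ = v := by rw [hx _ (hyW' v hv)]; group
    · have hm : y⁻¹ * v * y⁻¹⁻¹ ∈ V := conj_mem E hv
      have := hyW _ (hx' _ hm)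
      have e : y * (x * (y⁻¹ * v * y⁻¹⁻¹) * x⁻¹ * (y⁻¹ * v * y⁻¹⁻¹)) * y⁻¹ =
          y * x * y⁻¹ * v * (y * x * y⁻¹)⁻¹ * v := by group
      rwa [e] at this
  -- a lift of the product squaring into `W`
  obtain ⟨z, hz, hz3⟩ := exists_lift E hd3
  obtain ⟨x, hx, hxz⟩ := exists_normalising E (i := a * u) hz hz3 (k := 1) hd
  rw [pow_one] at hxz
  have hxG : x ∈ G := by
    have hm : (ã * ũ)⁻¹ * x ∈ V := by
      rw [mem_iff E, map_mul, map_inv, map_mul, hã, hũ, hx, inv_mul_cancel]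
    have := mul_mem (mul_mem haG huG) (hVG hm)
    rwa [mul_inv_cancel_left] at this
  have hx2V : x * x ∈ V := by
    rw [mem_iff E, map_mul, hx, mul_assoc, ← mul_assoc u, ← hau, mul_assoc, hu2, mul_one, ha2]
  have hxx : x * x ∈ W := by
    by_contra hnot
    have hcz : π x * π z = π z * π x := by rw [← map_mul, ← map_mul, mul_inv_eq_iff_eq_mul.1 hxz]
    set F := fx V x with hF
    have hzF : ∀ v ∈ F, z * v * z⁻¹ ∈ F := fun v hv => (mem_fx E).2
      ⟨conj_mem E hv.1, by rw [act_comm E hcz hv.1, ((mem_fx E).1 hv).2]⟩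
    have hWF : W ≤ F := fun v hv => (mem_fx E).2 ⟨hWV hv, hxG.1 v hv⟩
    have hxxF : x * x ∈ F := (mem_fx E).2 ⟨hx2V, by group⟩
    have hd2 : Nat.card F ∣ 2 ^ 4 := by
      have := Subgroup.card_dvd_of_le (inf_le_left : F ≤ V); rwa [E.card] at this
    have h4d := Subgroup.card_dvd_of_le hWF
    rw [hW4] at h4d
    have hne4 : Nat.card F ≠ 4 := fun e =>
      hnot ((Subgroup.eq_of_le_of_card_ge hWF (by rw [e, hW4])).symm ▸ hxxF)
    have hne16 : Nat.card F ≠ 16 := fun e => hau1 (by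
      have hall := Subgroup.eq_of_le_of_card_ge (inf_le_left : F ≤ V) (by
        change Nat.card V ≤ Nat.card F; rw [e, E.card])
      rw [← hx, ← mem_iff E]
      exact E.faith x fun v hv => ((mem_fx E).1 (hall.ge hv)).2)
    have hF8 : Nat.card F = 8 := by
      obtain ⟨i, hi, he⟩ := (Nat.dvd_prime_pow Nat.prime_two).1 hd2
      rw [he] at h4d hne4 hne16 ⊢
      interval_cases i <;> simp_all
    have hp : π z ^ 3 ^ 1 = 1 := by rw [hz, pow_one, hd3]
    have h1 := card_fixed E (p := 3) (k := 1) (S := F) inf_le_left hzF hp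
    have h2 := card_fixed E (p := 3) (k := 1) (S := V) le_rfl (fun v hv => conj_mem E hv) hp
    rw [hF8] at h1
    rw [E.card] at h2
    set T := F ⊓ Subgroup.centralizer {z} with hT
    set C := V ⊓ Subgroup.centralizer {z} with hC
    have hTC : T ≤ C := fun v hv => ⟨hv.1.1, hv.2⟩
    have hne : ∃ v ∈ C, v ∉ F := by
      by_contra hall
      push Not at hall
      have : T = C := le_antisymm hTC fun v hv => ⟨hall v hv, hv.2⟩
      rw [← this] at h2
      unfold Nat.ModEq at h1 h2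
      omega
    obtain ⟨v, hvC, hvF⟩ := hne
    have hT2 : Nat.card T = 2 := by
      have hd : Nat.card T ∣ 2 ^ 3 := by
        have := Subgroup.card_dvd_of_le (inf_le_left : T ≤ F); rwa [hF8] at this
      have h8 : Nat.card T ≠ 8 := fun e => by
        have hTF : T = F := Subgroup.eq_of_le_of_card_ge inf_le_left (by rw [e, hF8])
        have hFC : F ≤ C := hTF ▸ hTC
        have hdC : Nat.card C ∣ 16 := by
          have := Subgroup.card_dvd_of_le (inf_le_left : C ≤ V); rwa [E.card] at this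
        have hC8 := Subgroup.card_dvd_of_le hFC
        rw [hF8] at hC8
        have hC16 : Nat.card C ≠ 16 := fun e => by
          have hall := Subgroup.eq_of_le_of_card_ge (inf_le_left : C ≤ V) (by
            change Nat.card V ≤ Nat.card C; rw [e, E.card])
          exact hd1 (by
            rw [← hz, ← mem_iff E]
            exact E.faith z fun v hv => ((mem_fx E).1 (hall.ge hv : v ∈ fx V z)).2)
        obtain ⟨i, hi, he⟩ := (Nat.dvd_prime_pow Nat.prime_two).1 (show Nat.card C ∣ 2 ^ 4 from hdC)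
        rw [he] at hC8 hC16 h2
        unfold Nat.ModEq at h2
        interval_cases i <;> simp_all
      obtain ⟨i, hi, he⟩ := (Nat.dvd_prime_pow Nat.prime_two).1 hd
      rw [he] at h8 h1 ⊢
      unfold Nat.ModEq at h1
      interval_cases i <;> simp_all
    obtain ⟨hvV, hvz⟩ := (mem_fx E).1 (show v ∈ fx V z from hvC)
    obtain ⟨q, hq⟩ : ∃ q, q = x * v * x⁻¹ * v := ⟨_, rfl⟩
    have hqW : q ∈ W := hq ▸ hxG.2 v hvV
    have hqz : z * q * z⁻¹ = q := by
      rw [hq, act_mul E, ← act_comm E hcz hvV, hvz]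
    have hqT : q ∈ T := ⟨hWF hqW, ((mem_fx E).2 ⟨hWV hqW, hqz⟩ : q ∈ fx V z).2⟩
    have hq1 : q ≠ 1 := fun e => hvF ((mem_fx E).2 ⟨hvV, by
      rw [hq, mul_eq_one_iff_eq_inv, inv_eq E hvV] at e; exact e⟩)
    have hxT : x * x ∈ T := ⟨hxxF, Subgroup.mem_centralizer_singleton_iff.2 (by
      have e : x * z = z * x := mul_inv_eq_iff_eq_mul.1 hxz
      calc x * x * z = x * (z * x) := by rw [mul_assoc, e]
        _ = z * x * x := by rw [← mul_assoc, e]
        _ = z * (x * x) := mul_assoc _ _ _)⟩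
    have hxne : x * x ≠ q := fun e => hnot (e ▸ hqW)
    have hx1 : x * x ≠ 1 := fun e => hnot (e ▸ W.one_mem)
    have hsub : (↑({1, q, x * x} : Finset Y) : Set Y) ⊆ (T : Set Y) := by
      intro r hr
      simp only [Finset.coe_insert, Finset.coe_singleton, Set.mem_insert_iff, Set.mem_singleton_iff] at hr
      rcases hr with rfl | rfl | rfl
      exacts [T.one_mem, hqT, hxT]
    have h3 := Set.ncard_le_ncard hsub (Set.toFinite _)
    rw [Set.ncard_coe_finset, ← Nat.card_coe_set_eq] at h3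
    have h3' : ({1, q, x * x} : Finset Y).card = 3 := by
      rw [Finset.card_insert_of_notMem, Finset.card_insert_of_notMem, Finset.card_singleton] <;>
        simp [hq1.symm, hx1.symm, hxne.symm]
    have : Nat.card ↥(T : Set Y) = 2 := hT2
    omega
  -- every element over `E'` squares into `W`
  have hsqconj : ∀ r, r * r ∈ W → y * r * y⁻¹ * (y * r * y⁻¹) ∈ W := fun r hr => by
    rw [show y * r * y⁻¹ * (y * r * y⁻¹) = y * (r * r) * y⁻¹ by group]
    exact hyW _ hr
  have ha2W : ã * ã ∈ W := hã2 ▸ W.one_mem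
  have hu2W : ũ * ũ ∈ W := hũ2 ▸ W.one_mem
  let M := E'.comap π
  have hM : ∀ m ∈ M, m ∈ G ∧ m * m ∈ W := by
    intro m hm
    have key : ∀ r, r ∈ G → r * r ∈ W → π m = π r → m ∈ G ∧ m * m ∈ W := by
      intro r hrG hr e
      have hv : r⁻¹ * m ∈ V := by rw [mem_iff E, map_mul, map_inv, e, inv_mul_cancel]
      obtain ⟨v, hv', rfl⟩ : ∃ v ∈ V, m = r * v := ⟨_, hv, (mul_inv_cancel_left r m).symm⟩
      refine ⟨mul_mem hrG (hVG hv'), ?_⟩
      have e' : r * v * (r * v) = r * r * (r⁻¹ * v * r⁻¹⁻¹ * v) := by group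
      rw [e']
      exact mul_mem hr ((inv_mem hrG).2 v hv')
    have hwG := hyG ũ huG
    have hxG' := hyG x hxG
    rcases hE' _ (Subgroup.mem_comap.1 hm) with e | e | e | e | e | e | e | e
    · exact key 1 G.one_mem (by rw [one_mul]; exact W.one_mem) (by rw [e, map_one])
    · exact key ã haG ha2W (e.trans hã.symm)
    · exact key ũ huG hu2W (e.trans hũ.symm)
    · exact key _ hwG (hsqconj _ hu2W) (by rw [e, map_mul, map_mul, map_inv, hy, hũ])
    · exact key _ (hyG _ hwG) (hsqconj _ (hsqconj _ hu2W))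
        (by rw [e]; simp only [map_mul, map_inv, hy, hũ])
    · exact key x hxG hxx (e.trans hx.symm)
    · exact key _ hxG' (hsqconj _ hxx) (by rw [e, map_mul, map_mul, map_inv, hy, hx])
    · exact key _ (hyG _ hxG') (hsqconj _ (hsqconj _ hxx))
        (by rw [e]; simp only [map_mul, map_inv, hy, hx])
  let N := W.subgroupOf M
  have hN : N.Normal := ⟨fun n hn m => by
    rw [Subgroup.mem_subgroupOf] at hn ⊢
    simp only [Subgroup.coe_mul, Subgroup.coe_inv]
    rw [(hM m m.2).1.1 _ hn]; exact hn⟩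
  have hVM : V ≤ M := fun v hv => Subgroup.mem_comap.2 (by
    rw [(mem_iff E).1 hv]; exact E'.one_mem)
  refine ⟨M, N, hN, ?_, ?_⟩
  · have hcardN : Nat.card N = 4 := by
      rw [← hW4]; exact Nat.card_congr (Subgroup.subgroupOfEquivOfLe (hWV.trans hVM)).toEquiv
    have h1 := N.index_mul_card
    have hMi : Nat.card M = 128 := by
      have h2 := M.index_mul_card
      have h3 := E'.index_mul_card
      have h4 : M.index = E'.index := E'.index_comap_of_surjective E.surj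
      have h5 := π.ker.index_mul_card
      rw [E.ker, E.card, Subgroup.index_eq_card] at h5
      have h6 : Nat.card (Y ⧸ V) = Nat.card (Perm (Fin 6)) := by
        rw [← Subgroup.index_eq_card, ← E.ker, Subgroup.index_ker,
          MonoidHom.range_eq_top.2 E.surj, Subgroup.card_top]
      rw [hcard] at h3
      rw [h4] at h2
      rw [h6] at h5
      have hpos : 0 < E'.index := Nat.pos_of_ne_zero Subgroup.index_ne_zero_of_finite
      have e : E'.index * Nat.card M = E'.index * 128 := by rw [h2, ← h5, ← h3]; ring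
      exact Nat.eq_of_mul_eq_mul_left hpos e
    rw [hcardN, hMi] at h1
    rw [← Subgroup.index_eq_card]
    omega
  · intro q
    induction q using QuotientGroup.induction_on with
    | H m =>
      rw [← QuotientGroup.mk_mul, QuotientGroup.eq_one_iff, Subgroup.mem_subgroupOf]
      exact (hM m m.2).2

set_option maxRecDepth 20000 in
/-- The subgroup of order eight of eight given permutations. -/
theorem exists_eight (L : Finset (Perm (Fin 6))) (h1 : (1 : Perm (Fin 6)) ∈ L)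
    (hmul : ∀ x ∈ L, ∀ y ∈ L, x * y ∈ L) (hinv : ∀ x ∈ L, x⁻¹ ∈ L) (h8 : L.card = 8) :
    ∃ E' : Subgroup (Perm (Fin 6)), Nat.card E' = 8 ∧ ∀ e ∈ E', e ∈ L :=
  ⟨{ carrier := L, one_mem' := h1, mul_mem' := fun hx hy => hmul _ hx _ hy,
     inv_mem' := fun hx => hinv _ hx }, by
    show Nat.card ↥(L : Set (Perm (Fin 6))) = 8
    rw [Nat.card_coe_set_eq, Set.ncard_coe_finset, h8], fun e he => he⟩

set_option maxRecDepth 20000 in
/-- Such an extension has a section which is elementary of order thirty-two. -/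
theorem exists_big_section : ∃ (H : Subgroup Y) (N : Subgroup H) (_ : N.Normal),
    Nat.card (H ⧸ N) = 32 ∧ ∀ q : H ⧸ N, q * q = 1 := by
  classical
  rcases dichotomy E (c₁ := swap 0 1 * swap 1 2) (c₂ := swap 3 4 * swap 4 5)
    (g := swap 0 3 * swap 1 4 * swap 2 5) (h := swap 4 5) (by decide +kernel) (by decide +kernel)
    (by decide +kernel) (by decide +kernel) (by decide +kernel) (by decide +kernel) (by decide +kernel)
    with hf | hf
  · obtain ⟨E', hc, hE'⟩ := exists_eight E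
      ({1, swap 4 5, swap 0 1 * swap 2 3, swap 1 2 * swap 0 3, swap 2 0 * swap 1 3,
        swap 4 5 * (swap 0 1 * swap 2 3), swap 4 5 * (swap 1 2 * swap 0 3),
        swap 4 5 * (swap 2 0 * swap 1 3)} : Finset (Perm (Fin 6)))
      (by decide +kernel) (by decide +kernel) (by decide +kernel) (by decide +kernel)
    refine exists_section E (a := swap 4 5) (u := swap 0 1 * swap 2 3) (g := swap 2 4)
      (cu := swap 0 1 * swap 1 4) (d := swap 0 2 * swap 2 4 * (swap 1 3 * swap 3 5)) (k := 2)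
      (by decide +kernel) (by decide +kernel) (by decide +kernel) (by decide +kernel)
      (by decide +kernel) (by decide +kernel) (by decide +kernel) (by decide +kernel) (Or.inr rfl)
      (by decide +kernel) (by decide +kernel) (by decide +kernel) (by decide +kernel)
      (by decide +kernel) hf E' ?_ hc
    intro e he
    have h := hE' e he
    simp only [Finset.mem_insert, Finset.mem_singleton] at h
    rcases h with rfl | rfl | rfl | rfl | rfl | rfl | rfl | rfl <;> decide +kernel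
  · have hf' : Free6 V π (swap 0 2 * swap 2 4 * (swap 1 3 * swap 3 5)) :=
      free_conj E (h := swap 1 2 * swap 2 4 * swap 4 3) (by decide +kernel) hf
    obtain ⟨E', hc, hE'⟩ := exists_eight E
      ({1, swap 0 1 * swap 2 3 * swap 4 5, swap 0 1 * swap 2 3, swap 2 3 * swap 4 5,
        swap 0 1 * swap 4 5, swap 0 1, swap 2 3, swap 4 5} : Finset (Perm (Fin 6)))
      (by decide +kernel) (by decide +kernel) (by decide +kernel) (by decide +kernel)
    refine exists_section E (a := swap 0 1 * swap 2 3 * swap 4 5) (u := swap 0 1 * swap 2 3)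
      (g := swap 1 2) (cu := swap 0 1 * swap 1 4 * (swap 2 3 * swap 3 5))
      (d := swap 0 1 * swap 1 2) (k := 2)
      (by decide +kernel) (by decide +kernel) (by decide +kernel) (by decide +kernel)
      (by decide +kernel) (by decide +kernel) (by decide +kernel) (by decide +kernel) (Or.inr rfl)
      (by decide +kernel) (by decide +kernel) (by decide +kernel) (by decide +kernel)
      (by decide +kernel) hf' E' ?_ hc
    intro e he
    have h := hE' e he
    simp only [Finset.mem_insert, Finset.mem_singleton] at h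
    rcases h with rfl | rfl | rfl | rfl | rfl | rfl | rfl | rfl <;> decide +kernel

end Cfsg.Agent.SectFour17
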