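import Cfsg.Agent.Lib.PermGp.CleanEight
import Cfsg.Agent.Lib.Basics.Cores

/-!
# Nonsolvable groups of even permutations of eight points without normal two-subgroups
-/

set_option autoImplicit false
set_option linter.all false
set_option linter.style.haveILetI false

namespace Cfsg.Agent.SectFour17

open Equiv MulAction

/-- A normal subgroup of order prime to the degree of a transitive group is trivial. -/
theorem eq_bot_of_coprime {α : Type*} [Finite α] (A : Subgroup (Perm α)) [IsPretransitive A α]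
    {N : Subgroup A} [N.Normal] (h : (Nat.card N).Coprime (Nat.card α)) : N = ⊥ := by
  refine eq_bot_iff.2 fun n hn => ?_
  rw [Subgroup.mem_bot]
  refine Subtype.ext (Equiv.ext fun x => ?_)
  have h1 : Nat.card (orbit N x) ∣ Nat.card α := by
    rw [Nat.card_coe_set_eq]
    exact (IsBlock.orbit_of_normal (G := A) (N := N) x).ncard_dvd_card (nonempty_orbit x)
  have h2 : Nat.card (orbit N x) ∣ Nat.card N := by
    rw [Nat.card_congr (orbitEquivQuotientStabilizer N x), ← Subgroup.index_eq_card]
    exact Subgroup.index_dvd_card _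
  have h3 := Nat.eq_one_of_dvd_coprimes h h2 h1
  haveI := (Nat.card_eq_one_iff_unique.1 h3).1
  exact congrArg Subtype.val (Subsingleton.elim
    (⟨(n : Perm α) x, ⟨⟨n, hn⟩, rfl⟩⟩ : orbit N x) ⟨x, mem_orbit_self x⟩)

variable {K : Subgroup (Perm (Fin 8))}

/-- The types which occur. -/
theorem quotient_type (hle : K ≤ alternatingGroup (Fin 8)) (hns : ¬ Group.IsSolvable K)
    (hO2 : Cfsg.pCore 2 K = ⊥) :
    PermGp.IsGL4TwoType K ∨ (Nat.card (Cfsg.pCore 3 K) = 3 ∧
      (Nonempty (K ⧸ Cfsg.pCore 3 K ≃* alternatingGroup (Fin 5)) ∨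
        Nonempty (K ⧸ Cfsg.pCore 3 K ≃* Perm (Fin 5)))) := by
  classical
  haveI := Fact.mk Nat.prime_three
  obtain ⟨x, hx⟩ : ∃ x, 5 ≤ Nat.card (orbit K x) := by
    by_contra h
    push Not at h
    exact hns (PermGp.solvable_of_orbits_small K fun x => by have := h x; omega)
  set O : Set (Fin 8) := orbit K x
  haveI : Fintype O := Fintype.ofFinite O
  let f := MulAction.toPermHom K O
  have hfix : ∀ k : K, k ∈ f.ker → ∀ y ∈ O, (k : Perm (Fin 8)) y = y := fun k hk y hy =>
    congrArg Subtype.val (DFunLike.congr_fun (MonoidHom.mem_ker.1 hk : f k = 1) (⟨y, hy⟩ : O))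
  have hpres : ∀ (k : K) (y : Fin 8), ((k : Perm (Fin 8)) y ∈ O ↔ y ∈ O) := fun k y =>
    ⟨fun ⟨l, hl⟩ => ⟨k⁻¹ * l, by
      change l • x = (k : Perm (Fin 8)) y at hl
      show (k⁻¹ * l) • x = y
      rw [mul_smul, hl]
      exact inv_smul_smul k y⟩, fun ⟨l, hl⟩ => ⟨k * l, by
      change l • x = y at hl
      show (k * l) • x = (k : Perm (Fin 8)) y
      rw [mul_smul, hl]
      rfl⟩⟩
  have h8 : Nat.card O ≤ 8 := (Nat.card_le_card_of_injective Subtype.val Subtype.val_injective).trans
    (Nat.card_fin 8).le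
  have hcOc : Fintype.card (Oᶜ : Set (Fin 8)) + Nat.card O = 8 := by
    rw [← Nat.card_eq_fintype_card, Nat.card_coe_set_eq, Nat.card_coe_set_eq, add_comm,
      Set.ncard_add_ncard_compl, Nat.card_fin]
  -- the kernel has order one, or order three with five moved points
  have hk : f.ker = ⊥ ∨ Nat.card f.ker = 3 ∧ Nat.card O = 5 := by
    let ψ : f.ker →* Perm (Oᶜ : Set (Fin 8)) :=
      { toFun := fun k => ((k : K) : Perm (Fin 8)).subtypePerm fun y => not_congr (hpres k y)
        map_one' := Equiv.ext fun y => Subtype.ext rfl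
        map_mul' := fun k l => Equiv.ext fun y => Subtype.ext rfl }
    have hψ : Function.Injective ψ := fun k l hkl => by
      refine Subtype.ext (Subtype.ext (Equiv.ext fun y => ?_))
      by_cases hy : y ∈ O
      · rw [hfix _ k.2 y hy, hfix _ l.2 y hy]
      · exact congrArg Subtype.val (DFunLike.congr_fun hkl ⟨y, hy⟩)
    have hev : ∀ k, ψ k ∈ alternatingGroup (Oᶜ : Set (Fin 8)) := fun k => by
      rw [Perm.mem_alternatingGroup]
      refine Eq.trans ?_ (Perm.mem_alternatingGroup.1 (hle (k : K).2))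
      have hh : ∀ y, (((k : K) : Perm (Fin 8)) y ∈ Oᶜ ↔ y ∈ Oᶜ) := fun y => not_congr (hpres k y)
      show Perm.sign (((k : K) : Perm (Fin 8)).subtypePerm hh) = _
      convert Perm.sign_subtypePerm ((k : K) : Perm (Fin 8)) hh fun y hy => ?_
      exact fun hyO => hy (hfix _ k.2 y hyO)
    have hdvd : Nat.card f.ker ∣ Nat.card (alternatingGroup (Oᶜ : Set (Fin 8))) :=
      Subgroup.card_dvd_of_injective (ψ.codRestrict _ hev) fun a b e => hψ (congrArg Subtype.val e)
    by_cases h5 : Nat.card O = 5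
    · have h3 := PermGp.nat_card_alt (α := (Oᶜ : Set (Fin 8))) (n := 3) (by norm_num) (by omega)
      rw [show Nat.factorial 3 = 6 from rfl] at h3
      have : Nat.card f.ker ∣ 3 := hdvd.trans (dvd_of_eq (by omega))
      rcases (Nat.dvd_prime Nat.prime_three).1 this with e | e
      · exact Or.inl (Subgroup.card_eq_one.1 e)
      · exact Or.inr ⟨e, h5⟩
    · refine Or.inl (Subgroup.card_eq_one.1 (Nat.eq_one_of_dvd_one (hdvd.trans (dvd_of_eq ?_))))
      by_cases h6 : Nat.card O = 6
      · have h2 := PermGp.nat_card_alt (α := (Oᶜ : Set (Fin 8))) (n := 2) le_rfl (by omega)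
        rw [show Nat.factorial 2 = 2 from rfl] at h2
        omega
      · haveI : Subsingleton (Oᶜ : Set (Fin 8)) :=
          Fintype.card_le_one_iff_subsingleton.1 (by omega)
        exact Nat.card_unique
  have hnsf : ¬ Group.IsSolvable f.range := fun h => hns (by
    haveI := h
    haveI : Group.IsSolvable f.ker := PermGp.solvable_of_dvd_576 (by
      rcases hk with e | ⟨e, -⟩
      · rw [e, Subgroup.card_bot]; exact one_dvd _
      · rw [e]; norm_num)
    exact Group.isSolvable_of_ker_le_range f.ker.subtype f.rangeRestrict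
      (by rw [MonoidHom.ker_rangeRestrict, Subgroup.range_subtype]))
  haveI : IsPretransitive f.range O := ⟨fun y z => by
    obtain ⟨k, hk⟩ := exists_smul_eq K y z
    exact ⟨⟨f k, k, rfl⟩, hk⟩⟩
  have hc : Fintype.card O = Nat.card O := Nat.card_eq_fintype_card.symm
  rcases hk with hker | ⟨hker, h5⟩
  swap
  · right
    haveI : (Cfsg.pCore 3 f.range).Normal := inferInstance
    have hb : Cfsg.pCore 3 f.range = ⊥ := by
      obtain ⟨i, hi⟩ := (Basics.pCore_isPGroup (G := f.range) 3).exists_card_eq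
      refine eq_bot_of_coprime f.range ?_
      rw [hi, h5]
      exact Nat.Coprime.pow_left _ (by norm_num)
    have heq : Cfsg.pCore 3 K = f.ker := by
      refine le_antisymm (fun k hk => ?_) (Basics.le_pCore (IsPGroup.of_card (n := 1) (by rw [hker, pow_one])))
      have hN : ((Cfsg.pCore 3 K).map f.rangeRestrict).Normal :=
        Subgroup.Normal.map inferInstance _ f.rangeRestrict_surjective
      have h1 := Basics.le_pCore (hN := hN) ((Basics.pCore_isPGroup 3).map f.rangeRestrict)
        ⟨k, hk, rfl⟩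
      rw [hb, Subgroup.mem_bot] at h1
      rw [MonoidHom.mem_ker]
      exact congrArg Subtype.val h1
    refine ⟨by rw [heq, hker], ?_⟩
    let e : K ⧸ Cfsg.pCore 3 K ≃* f.range :=
      (QuotientGroup.quotientMulEquivOfEq heq).trans (QuotientGroup.quotientKerEquivRange f)
    exact (PermGp.deg_five (hc.trans h5) hnsf).imp (fun g => g.map e.trans) (fun g => g.map e.trans)
  left
  have hf : Function.Injective f := (MonoidHom.ker_eq_bot_iff f).1 hker
  let e : K ≃* f.range := MonoidHom.ofInjective hf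
  refine PermGp.IsGL4TwoType.of_equiv e ?_
  have hb2 : Cfsg.pCore 2 f.range = ⊥ := by
    haveI := Fact.mk Nat.prime_two
    have hN : ((Cfsg.pCore 2 f.range).map e.symm.toMonoidHom).Normal :=
      Subgroup.Normal.map inferInstance _ e.symm.surjective
    have h1 := Basics.le_pCore (hN := hN) ((Basics.pCore_isPGroup 2).map e.symm.toMonoidHom)
    rw [hO2, le_bot_iff] at h1
    exact (Subgroup.map_eq_bot_iff_of_injective _ e.symm.injective).1 h1
  have halt : ∀ m, 7 ≤ m → Fintype.card O = m → f.range ≤ alternatingGroup O := by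
    intro m hm hOm
    rintro _ ⟨k, rfl⟩
    rw [Perm.mem_alternatingGroup]
    have hfk : f k = (k : Perm (Fin 8)).subtypePerm (hpres k) := Equiv.ext fun y => Subtype.ext rfl
    rw [hfk]
    refine Eq.trans ?_ (Perm.mem_alternatingGroup.1 (hle k.2))
    convert Perm.sign_subtypePerm (k : Perm (Fin 8)) (hpres k) fun y hy => ?_
    by_contra hyO
    have hsub : ((k : Perm (Fin 8)) y) ∈ Oᶜ := fun h => hyO ((hpres k y).1 h)
    have h1 : (Oᶜ).ncard ≤ 1 := by
      rw [Set.ncard_compl, Nat.card_fin, ← Nat.card_coe_set_eq]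
      omega
    exact hy ((Set.ncard_le_one_iff (Set.toFinite _)).1 h1 hsub hyO)
  rcases (show Nat.card O = 5 ∨ Nat.card O = 6 ∨ Nat.card O = 7 ∨ Nat.card O = 8 by omega) with
    h | h | h | h
  · rcases PermGp.deg_five (hc.trans h) hnsf with h' | h'
    · exact Or.inl ⟨5, le_rfl, by norm_num, h'⟩
    · exact Or.inr (Or.inl h')
  · rcases PermGp.deg_six (hc.trans h) hnsf with h' | h' | h' | h'
    · exact Or.inl ⟨5, le_rfl, by norm_num, h'⟩
    · exact Or.inr (Or.inl h')
    · exact Or.inl ⟨6, by norm_num, by norm_num, h'⟩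
    · exact Or.inr (Or.inr (Or.inl h'))
  · have hA := halt 7 le_rfl (hc.trans h)
    by_cases h' : alternatingGroup O ≤ f.range
    · exact Or.inl ⟨7, by norm_num, by norm_num,
        ⟨(MulEquiv.subgroupCongr (le_antisymm hA h')).trans
          (Fintype.equivFinOfCardEq (hc.trans h)).altCongrHom⟩⟩
    · obtain ⟨h168, hs⟩ := Cfsg.Agent.S0678.result (hc.trans h) f.range hnsf h'
      haveI := hs
      exact Or.inr (Or.inr (Or.inr (PermGp.nonempty_equiv_GL32 h168)))
  · have hA := halt 8 (by norm_num) (hc.trans h)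
    have hbo : Cfsg.pPrimeCore 2 f.range = ⊥ := by
      refine eq_bot_of_coprime f.range ?_
      rw [show Nat.card O = 2 ^ 3 from h]
      exact Nat.Coprime.pow_right _ (Basics.pPrimeCore_coprime 2)
    rcases PermGp.deg_eight (hc.trans h) (PermGp.clean_of_cores hbo hb2) hnsf hA with h' | ⟨hs, h168⟩
    · exact Or.inl ⟨8, by norm_num, le_rfl,
        ⟨(MulEquiv.subgroupCongr (le_antisymm hA h')).trans
          (Fintype.equivFinOfCardEq (hc.trans h)).altCongrHom⟩⟩
    · haveI := hs
      exact Or.inr (Or.inr (Or.inr (PermGp.nonempty_equiv_GL32 h168)))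

/-- `GL₃(2)` is `PSL₃(2)`. -/
theorem nonempty_GL32_equiv_PSL : Nonempty (GL (Fin 3) (ZMod 2) ≃*
    Matrix.ProjectiveSpecialLinearGroup (Fin 3) (ZMod 2)) := by
  let T : Matrix.SpecialLinearGroup (Fin 3) (ZMod 2) →* GL (Fin 3) (ZMod 2) :=
    Matrix.SpecialLinearGroup.toGL
  have hu : ∀ u : (ZMod 2)ˣ, u = 1 := by decide
  have hsurj : Function.Surjective T := by
    intro g
    have hd : Matrix.det (g : Matrix (Fin 3) (Fin 3) (ZMod 2)) = 1 := by
      rw [← Matrix.GeneralLinearGroup.val_det_apply, hu (Matrix.GeneralLinearGroup.det g), Units.val_one]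
    exact ⟨⟨_, hd⟩, Units.ext rfl⟩
  have hinj : Function.Injective T := fun a b hab => Subtype.ext (congrArg Units.val hab)
  have hc : Subgroup.center (Matrix.SpecialLinearGroup (Fin 3) (ZMod 2)) = ⊥ := by
    refine eq_bot_iff.2 fun A hA => ?_
    obtain ⟨r, hr, hrA⟩ := Matrix.SpecialLinearGroup.mem_center_iff.1 hA
    have hr1 : r = 1 := by
      clear hrA
      revert hr
      rw [Fintype.card_fin]
      revert r
      decide
    rw [Subgroup.mem_bot]
    refine Subtype.ext ?_
    rw [← hrA, hr1, map_one]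
    rfl
  exact ⟨(((QuotientGroup.quotientMulEquivOfEq hc).trans QuotientGroup.quotientBot).trans
    (MulEquiv.ofBijective T ⟨hinj, hsurj⟩)).symm⟩

end Cfsg.Agent.SectFour17
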